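import Groth.Agent.H45.FinFree.SecOver
import Groth.Agent.H45.SheafTensor.ToSheaf
import Mathlib.CategoryTheory.Sites.EpiMono

/-!
# Free modules on slice sites and restriction
-/

set_option autoImplicit false
universe u
open CategoryTheory CategoryTheory.Limits Opposite

namespace Groth.Agent.H45.FinFree

variable {C : Type u} [SmallCategory C] {J : GrothendieckTopology C} {O : Sheaf J CommRingCat.{u}}

/-- An epimorphism of sheaves of modules is locally surjective. -/
theorem locSurj_of_epi {G F : ModSite.Mod O} (p : G ⟶ F) [Epi p] :
    LocSurj J ((forg O).map p) := by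
  rw [← isLocallySurjective_iff_locSurj]
  have h1 : Epi ((SheafOfModules.toSheaf.{u} (ModSite.ringSh O)).map p) := inferInstance
  have h2 := (Sheaf.isLocallySurjective_iff_epi' _
    ((SheafOfModules.toSheaf.{u} (ModSite.ringSh O)).map p)).2 h1
  exact h2

variable {W : C}

/-- Morphisms from a free module on the slice site are families of elements over the terminal
object. -/
noncomputable def freeHomEquivTop (N : ModSite.Mod (O.over W)) {I : Type u} :
    (SheafOfModules.free I ⟶ N) ≃ (I → (pre N).obj (op (top W))) :=
  N.freeHomEquiv.trans (Equiv.piCongrRight fun _ => secEquiv N)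

lemma freeHomEquivTop_apply (N : ModSite.Mod (O.over W)) {I : Type u}
    (f : SheafOfModules.free I ⟶ N) (i : I) :
    freeHomEquivTop N f i =
      (SheafOfModules.ιFree i ≫ f).val.app (op (top W)) (1 : (O.over W).obj.obj (op (top W))) :=
  rfl

lemma freeHomEquivTop_comp {N N' : ModSite.Mod (O.over W)} {I : Type u}
    (f : SheafOfModules.free I ⟶ N) (p : N ⟶ N') (i : I) :
    freeHomEquivTop N' (f ≫ p) i = p.val.app (op (top W)) (freeHomEquivTop N f i) := rfl

variable (O W)

instance additive_restr : (ModSite.restr O W).Additive where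

/-- Restriction preserves the unit module. -/
noncomputable def restrUnitIso :
    SheafOfModules.unit (ModSite.ringSh (O.over W)) ≅
      (ModSite.restr O W).obj (SheafOfModules.unit (ModSite.ringSh O)) := Iso.refl _

instance preservesColimitsOfShape_restr (n : ℕ) :
    PreservesColimitsOfShape (Discrete (ULift.{u} (Fin n))) (ModSite.restr O W) :=
  preservesColimitsOfShape_of_equiv (Discrete.equivalence Equiv.ulift.symm) _

/-- Restriction preserves finite free modules. -/
noncomputable def restrFreeIso (n : ℕ) :
    SheafOfModules.free (R := ModSite.ringSh (O.over W)) (ULift.{u} (Fin n)) ≅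
      (ModSite.restr O W).obj (SheafOfModules.free (ULift.{u} (Fin n))) :=
  SheafOfModules.mapFreeIso (ModSite.restr O W) _ (restrUnitIso O W)

variable {O W}

lemma freeHomEquivTop_restr {M : ModSite.Mod O} {n : ℕ}
    (ψ : SheafOfModules.free (ULift.{u} (Fin n)) ⟶ M) (i : ULift.{u} (Fin n)) :
    freeHomEquivTop _ ((restrFreeIso O W n).hom ≫ (ModSite.restr O W).map ψ) i =
      (M.freeHomEquiv ψ i).1 (op W) := by
  rw [freeHomEquivTop_apply, restrFreeIso, SheafOfModules.ιFree_mapFreeIso_hom_assoc]
  rfl

end Groth.Agent.H45.FinFree
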