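import Groth.Agent.H45.FinFree.OverMap

/-!
# Restriction to a slice is exact; transport of morphisms between slices
-/

set_option autoImplicit false
universe u
open CategoryTheory CategoryTheory.Limits Opposite

namespace Groth.Agent.H45.FinFree

variable {C : Type u} [SmallCategory C] {J : GrothendieckTopology C} {O : Sheaf J CommRingCat.{u}}

lemma locSurj_restr_map (W : C) {N N' : ModSite.Mod O} (p : N ⟶ N')
    (hp : LocSurj J ((forg O).map p)) :
    LocSurj (J.over W) ((forg (O.over W)).map ((ModSite.restr O W).map p)) := by
  intro Y y
  obtain ⟨S, hS, h⟩ := hp ((Over.forget W).obj Y) y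
  refine ⟨S.functorPullback (Over.forget W), (Over.forget W).cover_lift (J.over W) J hS,
    fun Z f hf => ?_⟩
  obtain ⟨x, hx⟩ := h ((Over.forget W).map f) hf
  exact ⟨x, hx⟩

instance preservesEpimorphisms_restr (W : C) : (ModSite.restr O W).PreservesEpimorphisms where
  preserves p _ := epi_of_locSurj _ (locSurj_restr_map W p (locSurj_of_epi p))

instance preservesHomology_restr (W : C) : (ModSite.restr O W).PreservesHomology :=
  Functor.preservesHomology_of_preservesEpis_and_kernels _

instance preservesFiniteColimits_restr (W : C) : PreservesFiniteColimits (ModSite.restr O W) :=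
  Functor.preservesFiniteColimits_of_preservesHomology _

section Transport

variable {W' W : C} (g : W' ⟶ W)

/-- Transport of a morphism between restrictions to the slice over `W` to a morphism between the
restrictions to the slice over `W'`. -/
noncomputable def transp {N N' : ModSite.Mod O}
    (ψ : (ModSite.restr O W).obj N ⟶ (ModSite.restr O W).obj N') :
    (ModSite.restr O W').obj N ⟶ (ModSite.restr O W').obj N' :=
  (restrOvmIso O g).inv.app N ≫ (ovm O g).map ψ ≫ (restrOvmIso O g).hom.app N'

lemma transp_map {N N' : ModSite.Mod O} (u : N ⟶ N') :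
    transp g ((ModSite.restr O W).map u) = (ModSite.restr O W').map u := by
  have := (restrOvmIso O g).hom.naturality u
  have e2 : (ovm O g).map ((ModSite.restr O W).map u) ≫ (restrOvmIso O g).hom.app N' =
      (restrOvmIso O g).hom.app N ≫ (ModSite.restr O W').map u := this
  rw [transp, e2, Iso.inv_hom_id_app_assoc]

lemma transp_comp {N N' N'' : ModSite.Mod O}
    (ψ : (ModSite.restr O W).obj N ⟶ (ModSite.restr O W).obj N')
    (ψ' : (ModSite.restr O W).obj N' ⟶ (ModSite.restr O W).obj N'') :
    transp g (ψ ≫ ψ') = transp g ψ ≫ transp g ψ' := by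
  simp only [transp, Functor.map_comp, Category.assoc, Iso.hom_inv_id_app_assoc]

lemma transp_add {N N' : ModSite.Mod O}
    (ψ ψ' : (ModSite.restr O W).obj N ⟶ (ModSite.restr O W).obj N') :
    transp g (ψ + ψ') = transp g ψ + transp g ψ' := by
  simp only [transp, Functor.map_add, Preadditive.add_comp, Preadditive.comp_add]

lemma transp_sub {N N' : ModSite.Mod O}
    (ψ ψ' : (ModSite.restr O W).obj N ⟶ (ModSite.restr O W).obj N') :
    transp g (ψ - ψ') = transp g ψ - transp g ψ' := by
  simp only [transp, Functor.map_sub, Preadditive.sub_comp, Preadditive.comp_sub]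

end Transport

end Groth.Agent.H45.FinFree
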