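import Groth.Agent.H45.FinFree.Expand

/-!
# Factoring a morphism out of a finitely presented module through a finite free module,
given the data of a trivialisation of the relations
-/

set_option autoImplicit false
universe u
open CategoryTheory CategoryTheory.Limits Opposite

namespace Groth.Agent.H45.FinFree

variable {C : Type u} [SmallCategory C] {J : GrothendieckTopology C} {O : Sheaf J CommRingCat.{u}}
variable {W : C}

lemma freeHomEquivTop_zero {I : Type u} (N : ModSite.Mod (O.over W)) (i : I) :
    freeHomEquivTop N (0 : SheafOfModules.free I ⟶ N) i = 0 := by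
  rw [freeHomEquivTop_apply, comp_zero]
  rfl

/-- The relation among generators given by a relation morphism. -/
lemma sum_coord_smul_eq_zero {G R : Type u} [Fintype G] {N : ModSite.Mod (O.over W)}
    (π : SheafOfModules.free G ⟶ N) (ρ : SheafOfModules.free R ⟶ SheafOfModules.free G)
    (w : ρ ≫ π = 0) (b : R) :
    ∑ a : G, coord a (freeHomEquivTop _ ρ b) • freeHomEquivTop N π a = 0 := by
  rw [← expand, ← freeHomEquivTop_comp, w, freeHomEquivTop_zero]

theorem exists_factor {G R : Type u} [Fintype G] {N N' : ModSite.Mod (O.over W)}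
    (π : SheafOfModules.free G ⟶ N) (ρ : SheafOfModules.free R ⟶ SheafOfModules.free G)
    (w : ρ ≫ π = 0) (hc : IsColimit (CokernelCofork.ofπ π w)) (ψ : N ⟶ N')
    (k : ℕ) (α : G → Fin k → (O.over W).obj.obj (op (top W)))
    (μ : Fin k → (pre N').obj (op (top W)))
    (h1 : ∀ a, ψ.val.app (op (top W)) (freeHomEquivTop N π a) = ∑ k', α a k' • μ k')
    (h2 : ∀ b k', ∑ a, α a k' * coord a (freeHomEquivTop _ ρ b) = 0) :
    ∃ (a : N ⟶ SheafOfModules.free (ULift.{u} (Fin k)))
      (b : SheafOfModules.free (ULift.{u} (Fin k)) ⟶ N'), a ≫ b = ψ := by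
  let gen : Fin k → (pre (SheafOfModules.free (R := ModSite.ringSh (O.over W))
      (ULift.{u} (Fin k)))).obj (op (top W)) :=
    fun k' => freeHomEquivTop _ (𝟙 _) ⟨k'⟩
  let at' : SheafOfModules.free G ⟶ SheafOfModules.free (ULift.{u} (Fin k)) :=
    (freeHomEquivTop _).symm (fun a => ∑ k', α a k' • gen k')
  have hat : ∀ a, freeHomEquivTop _ at' a = ∑ k', α a k' • gen k' := fun a => by
    simp only [at', Equiv.apply_symm_apply]
  have hρ : ρ ≫ at' = 0 := by
    apply (freeHomEquivTop _).injective
    funext b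
    rw [freeHomEquivTop_comp, expand, freeHomEquivTop_zero]
    simp_rw [hat, Finset.smul_sum, smul_smul]
    rw [Finset.sum_comm]
    refine Finset.sum_eq_zero (fun k' _ => ?_)
    rw [← Finset.sum_smul]
    have := h2 b k'
    simp_rw [mul_comm] at this ⊢
    rw [this, zero_smul]
  let a : N ⟶ SheafOfModules.free (ULift.{u} (Fin k)) :=
    hc.desc (CokernelCofork.ofπ at' hρ)
  have ha : π ≫ a = at' := hc.fac (CokernelCofork.ofπ at' hρ) WalkingParallelPair.one
  let b : SheafOfModules.free (ULift.{u} (Fin k)) ⟶ N' :=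
    (freeHomEquivTop N').symm (fun k' => μ k'.down)
  have hb : ∀ k', b.val.app (op (top W)) (gen k') = μ k' := fun k' => by
    have := congrFun ((freeHomEquivTop N').apply_symm_apply
      (fun k' : ULift.{u} (Fin k) => μ k'.down)) (ULift.up k')
    refine Eq.trans ?_ this
    change _ = freeHomEquivTop N' (𝟙 _ ≫ b) ⟨k'⟩
    rw [freeHomEquivTop_comp]
  refine ⟨a, b, ?_⟩
  haveI : Epi π := epi_of_isColimit_cofork hc
  rw [← cancel_epi π, ← Category.assoc, ha]
  apply (freeHomEquivTop _).injective
  funext g
  rw [freeHomEquivTop_comp, freeHomEquivTop_comp, hat, h1, map_sum]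
  refine Finset.sum_congr rfl (fun k' _ => ?_)
  rw [map_smul, hb]

end Groth.Agent.H45.FinFree
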