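import Groth.Agent.H45.FinFree.OverMap
import Groth.Agent.H45.FinFree.Factor
import Groth.Agent.H45.SheafTensor.LMR1toLMR
import Mathlib.Algebra.Category.ModuleCat.Sheaf.Quasicoherent

/-!
# A morphism from a finitely presented module to a flat module factors locally through a
finite free module
-/

set_option autoImplicit false
universe u
open CategoryTheory CategoryTheory.Limits Opposite

namespace Groth.Agent.H45.FinFree

variable {C : Type u} [SmallCategory C] {J : GrothendieckTopology C} {O : Sheaf J CommRingCat.{u}}

lemma res_restr_toTop_gtop {V X : C} (g : V ⟶ X) (H : ModSite.Mod O)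
    (x : (pre ((ModSite.restr O X).obj H)).obj (op (top X))) :
    res (pre ((ModSite.restr O X).obj H)) (toTop (gtop g)) x =
      res ((forg O).obj H) g x := by
  change res ((forg O).obj H) (𝟙 V ≫ g) x = _
  rw [Category.id_comp]

lemma map_toTop_gtop {V X : C} (g : V ⟶ X) (r : (O.over X).obj.obj (op (top X))) :
    ((O.over X).obj.map (toTop (gtop g)).op).hom r = (O.obj.map g.op).hom r := by
  change (O.obj.map (𝟙 V ≫ g).op).hom r = _
  rw [Category.id_comp]

theorem local_factor (F H : ModSite.Mod O) (hH : ModSite.IsFlat H) (φ : F ⟶ H) {X₀ : C}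
    (P : ((ModSite.restr O X₀).obj F).Presentation) [P.IsFinite] :
    ∃ S ∈ J X₀, ∀ ⦃V : C⦄ (g : V ⟶ X₀), S g →
      ∃ (n : ℕ) (a : (ModSite.restr O V).obj F ⟶ SheafOfModules.free (ULift.{u} (Fin n)))
        (b : SheafOfModules.free (ULift.{u} (Fin n)) ⟶ (ModSite.restr O V).obj H),
        a ≫ b = (ModSite.restr O V).map φ := by
  classical
  haveI : Finite P.generators.I := SheafOfModules.GeneratingSections.IsFiniteType.finite
  haveI : Finite P.relations.I := SheafOfModules.GeneratingSections.IsFiniteType.finite
  letI : Fintype P.generators.I := Fintype.ofFinite _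
  letI : Fintype P.relations.I := Fintype.ofFinite _
  let π : SheafOfModules.free P.generators.I ⟶ (ModSite.restr O X₀).obj F := P.generators.π
  let ρ : SheafOfModules.free (R := ModSite.ringSh (O.over X₀)) P.relations.I ⟶
      SheafOfModules.free P.generators.I :=
    (SheafOfModules.freeHomEquiv _).symm P.relations.s ≫ kernel.ι _
  have w : ρ ≫ π = 0 := by simp [ρ, π]
  have hc : IsColimit (CokernelCofork.ofπ π w) := P.isColimit
  let m : P.generators.I → (pre ((ModSite.restr O X₀).obj F)).obj (op (top X₀)) :=
    fun a => freeHomEquivTop _ π a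
  let c : P.generators.I → P.relations.I → (O.over X₀).obj.obj (op (top X₀)) :=
    fun a b => coord a (freeHomEquivTop _ ρ b)
  have hrel : ∀ b, ∑ a, c a b • m a = 0 := sum_coord_smul_eq_zero π ρ w
  let ψ := (ModSite.restr O X₀).map φ
  let h : P.generators.I → (pre ((ModSite.restr O X₀).obj H)).obj (op (top X₀)) :=
    fun a => ψ.val.app (op (top X₀)) (m a)
  have hrel' : ∀ b, ∑ a, c a b • h a = 0 := by
    intro b
    have := congrArg (ψ.val.app (op (top X₀))) (hrel b)
    rw [map_sum, map_zero] at this
    simp_rw [map_smul] at this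
    exact this
  let eG := Fintype.equivFin P.generators.I
  let eR := Fintype.equivFin P.relations.I
  obtain ⟨S, hS, hS'⟩ := lmr_of_isFlat H hH X₀ (Fin (Fintype.card P.generators.I))
    (Fintype.card P.relations.I) (fun i j => c (eG.symm i) (eR.symm j))
    (fun i => h (eG.symm i)) (by
      intro j
      exact (Fintype.sum_equiv eG.symm _ (fun a => c a (eR.symm j) • h a)
        (fun i => rfl)).trans (hrel' (eR.symm j)))
  refine ⟨S, hS, fun V g hg => ?_⟩
  obtain ⟨k, α, μ, hμ, hα⟩ := hS' g hg
  obtain ⟨a, b, hab⟩ := exists_factor (ovmGen g π) (ovmRel g ρ) (ovmRel_ovmGen g w)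
    (ovmIsColimit g w hc) ((ovm O g).map ψ) k (fun a k' => α (eG a) k') μ (by
      intro a
      rw [ovmGen, freeHomEquivTop_ovm]
      have h1 := res_naturality ((forg (O.over X₀)).map ψ) (toTop (gtop g)) (m a)
      refine h1.trans ?_
      refine (res_restr_toTop_gtop g H (h a)).trans ?_
      have := hμ (eG a)
      rw [Equiv.symm_apply_apply] at this
      exact this) (by
      intro b k'
      have := hα (eR b) k'
      simp only [Equiv.symm_apply_apply] at this
      refine (Fintype.sum_equiv eG _
        (fun x => α x k' * (O.obj.map g.op).hom (c (eG.symm x) b)) (fun a => ?_)).trans this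
      have e1 : coord a (freeHomEquivTop _ (ovmRel g ρ) b) =
          (O.obj.map g.op).hom (c a b) := by
        rw [ovmRel, coord_ovm]
        exact map_toTop_gtop g (c a b)
      rw [Equiv.symm_apply_apply]
      exact congrArg (fun z => α (eG a) k' * z) e1)
  refine ⟨k, (restrOvmIso O g).inv.app F ≫ a, b ≫ (restrOvmIso O g).hom.app H, ?_⟩
  rw [Category.assoc, ← Category.assoc a, hab]
  have := (restrOvmIso O g).hom.naturality φ
  have e2 : (ovm O g).map ψ ≫ (restrOvmIso O g).hom.app H =
      (restrOvmIso O g).hom.app F ≫ (ModSite.restr O V).map φ := this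
  rw [e2, Iso.inv_hom_id_app_assoc]

end Groth.Agent.H45.FinFree
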