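import Groth.Agent.H45.FinFree.FreeSlice

/-!
# Coordinates in finite free modules on a slice site
-/

set_option autoImplicit false
universe u
open CategoryTheory CategoryTheory.Limits Opposite

namespace Groth.Agent.H45.FinFree

variable {C : Type u} [SmallCategory C] {J : GrothendieckTopology C} {O : Sheaf J CommRingCat.{u}}
variable {W : C}

section

variable (O W) (I : Type u)

open Classical in
/-- The `a`-th coordinate projection of a free module. -/
noncomputable def proj (a : I) :
    SheafOfModules.free (R := ModSite.ringSh (O.over W)) I ⟶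
      SheafOfModules.unit (ModSite.ringSh (O.over W)) :=
  Cofan.IsColimit.desc (SheafOfModules.isColimitFreeCofan I) (fun b => if b = a then 𝟙 _ else 0)

variable {I}

open Classical in
lemma ιFree_proj (a b : I) :
    SheafOfModules.ιFree b ≫ proj O W I a = if b = a then 𝟙 _ else 0 :=
  Cofan.IsColimit.fac (SheafOfModules.isColimitFreeCofan I) _ b

lemma sum_proj_ιFree [Fintype I] :
    ∑ a : I, proj O W I a ≫ SheafOfModules.ιFree a = 𝟙 (SheafOfModules.free I) := by
  classical
  apply Cofan.IsColimit.hom_ext (SheafOfModules.isColimitFreeCofan I)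
  intro b
  change SheafOfModules.ιFree b ≫ _ = SheafOfModules.ιFree b ≫ _
  rw [Preadditive.comp_sum, Category.comp_id]
  have h : ∀ a : I, SheafOfModules.ιFree b ≫ proj O W I a ≫ SheafOfModules.ιFree a =
      if b = a then SheafOfModules.ιFree b else 0 := by
    intro a
    rw [← Category.assoc, ιFree_proj]
    split_ifs with hba
    · subst hba; rw [Category.id_comp]
    · rw [zero_comp]
  rw [Finset.sum_congr rfl (fun a _ => h a)]
  simp

end

lemma sum_val_app {M N : ModSite.Mod (O.over W)} {ι : Type*} (s : Finset ι) (f : ι → (M ⟶ N))
    (Y : (Over W)ᵒᵖ) (x : (pre M).obj Y) :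
    (∑ i ∈ s, f i).val.app Y x = ∑ i ∈ s, (f i).val.app Y x := by
  classical
  induction s using Finset.induction_on with
  | empty => rw [Finset.sum_empty, Finset.sum_empty]; rfl
  | insert i s hi ih =>
    rw [Finset.sum_insert hi, Finset.sum_insert hi, ← ih]
    rfl

/-- The `a`-th coordinate of an element of a free module over the terminal object of the slice. -/
noncomputable def coord {I : Type u} (a : I)
    (x : (pre (SheafOfModules.free (R := ModSite.ringSh (O.over W)) I)).obj (op (top W))) :
    (O.over W).obj.obj (op (top W)) :=
  (proj O W I a).val.app (op (top W)) x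

/-- Expansion of the value of a morphism from a finite free module in terms of coordinates. -/
lemma expand {I : Type u} [Fintype I] {N : ModSite.Mod (O.over W)}
    (ψ : SheafOfModules.free I ⟶ N)
    (x : (pre (SheafOfModules.free (R := ModSite.ringSh (O.over W)) I)).obj (op (top W))) :
    ψ.val.app (op (top W)) x = ∑ a : I, coord a x • freeHomEquivTop N ψ a := by
  have h := congrArg (fun f => (f ≫ ψ).val.app (op (top W)) x) (sum_proj_ιFree O W (I := I))
  simp only [Category.id_comp] at h
  rw [← h, Preadditive.sum_comp, sum_val_app]
  refine Finset.sum_congr rfl (fun a _ => ?_)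
  rw [freeHomEquivTop_apply]
  change (SheafOfModules.ιFree a ≫ ψ).val.app (op (top W)) (coord a x) = _
  have h1 : coord a x = coord a x • (1 : (O.over W).obj.obj (op (top W))) := by
    rw [smul_eq_mul, mul_one]
  conv_lhs => rw [h1]
  exact map_smul ((SheafOfModules.ιFree a ≫ ψ).val.app (op (top W))).hom _ _

end Groth.Agent.H45.FinFree
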