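import Groth.Agent.H45.SheafTensor.LocalIso
import Mathlib.Algebra.Category.ModuleCat.Sheaf.Free

/-!
# Global sections on a ringed site with a terminal object, and finite free modules
-/

set_option autoImplicit false
universe u
open CategoryTheory CategoryTheory.Limits Opposite

namespace Groth.Agent.H45.GlobalSec

variable {C : Type u} [SmallCategory C] {J : GrothendieckTopology C} {O : Sheaf J CommRingCat.{u}}
variable {X : C} (hX : IsTerminal X)

/-- The underlying presheaf of modules. -/
abbrev pre (N : ModSite.Mod O) :
    PresheafOfModules.{u} (O.obj ⋙ forget₂ CommRingCat RingCat) := N.val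

include hX in
lemma comp_from {Y Z : C} (f : Y ⟶ Z) : f ≫ hX.from Z = hX.from Y := hX.hom_ext _ _

/-- Sections of a sheaf of modules are the elements over the terminal object. -/
noncomputable def secEquiv (N : ModSite.Mod O) :
    N.sections ≃ (pre N).obj (op X) where
  toFun s := s.1 (op X)
  invFun x := PresheafOfModules.sectionsMk (fun Y => res (pre N) (hX.from Y.unop) x) (by
    intro Y Z f
    change res (pre N) f.unop (res (pre N) (hX.from Y.unop) x) = res (pre N) (hX.from Z.unop) x
    rw [← res_comp, comp_from hX])
  left_inv s := by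
    ext Y
    exact PresheafOfModules.sections_property s (hX.from Y.unop).op
  right_inv x := by
    change res (pre N) (hX.from X) x = x
    rw [hX.hom_ext (hX.from X) (𝟙 X)]
    unfold res
    simp

lemma secEquiv_sectionsMap {N N' : ModSite.Mod O} (f : N ⟶ N') (s : N.sections) :
    secEquiv hX N' (SheafOfModules.sectionsMap f s) = f.val.app (op X) (secEquiv hX N s) := rfl

/-- Morphisms from a free module are families of elements over the terminal object. -/
noncomputable def freeHomEquivTop (N : ModSite.Mod O) {I : Type u} :
    (SheafOfModules.free I ⟶ N) ≃ (I → (pre N).obj (op X)) :=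
  N.freeHomEquiv.trans (Equiv.piCongrRight fun _ => secEquiv hX N)

lemma freeHomEquivTop_apply (N : ModSite.Mod O) {I : Type u}
    (f : SheafOfModules.free I ⟶ N) (i : I) :
    freeHomEquivTop hX N f i =
      (SheafOfModules.ιFree i ≫ f).val.app (op X) (1 : O.obj.obj (op X)) :=
  rfl

section

variable (O) (I : Type u)

open Classical in
/-- The `a`-th coordinate projection of a free module. -/
noncomputable def proj (a : I) :
    SheafOfModules.free (R := ModSite.ringSh O) I ⟶ SheafOfModules.unit (ModSite.ringSh O) :=
  Cofan.IsColimit.desc (SheafOfModules.isColimitFreeCofan I) (fun b => if b = a then 𝟙 _ else 0)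

variable {I}

open Classical in
lemma ιFree_proj (a b : I) :
    SheafOfModules.ιFree b ≫ proj O I a = if b = a then 𝟙 _ else 0 :=
  Cofan.IsColimit.fac (SheafOfModules.isColimitFreeCofan I) _ b

lemma sum_proj_ιFree [Fintype I] :
    ∑ a : I, proj O I a ≫ SheafOfModules.ιFree a = 𝟙 (SheafOfModules.free I) := by
  classical
  apply Cofan.IsColimit.hom_ext (SheafOfModules.isColimitFreeCofan I)
  intro b
  change SheafOfModules.ιFree b ≫ _ = SheafOfModules.ιFree b ≫ _
  rw [Preadditive.comp_sum, Category.comp_id]
  have h : ∀ a : I, SheafOfModules.ιFree b ≫ proj O I a ≫ SheafOfModules.ιFree a =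
      if b = a then SheafOfModules.ιFree b else 0 := by
    intro a
    rw [← Category.assoc, ιFree_proj]
    split_ifs with hba
    · subst hba; rw [Category.id_comp]
    · rw [zero_comp]
  rw [Finset.sum_congr rfl (fun a _ => h a)]
  simp

end

lemma sum_val_app {M N : ModSite.Mod O} {ι : Type*} (s : Finset ι) (f : ι → (M ⟶ N))
    (Y : Cᵒᵖ) (x : (pre M).obj Y) :
    (∑ i ∈ s, f i).val.app Y x = ∑ i ∈ s, (f i).val.app Y x := by
  classical
  induction s using Finset.induction_on with
  | empty => rw [Finset.sum_empty, Finset.sum_empty]; rfl
  | insert i s hi ih =>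
    rw [Finset.sum_insert hi, Finset.sum_insert hi, ← ih]
    rfl

/-- The `a`-th coordinate of an element of a free module over `X`. -/
noncomputable def coord {I : Type u} (a : I)
    (x : (pre (SheafOfModules.free (R := ModSite.ringSh O) I)).obj (op X)) :
    O.obj.obj (op X) :=
  (proj O I a).val.app (op X) x

/-- Expansion of the value of a morphism from a finite free module in terms of coordinates. -/
lemma expand {I : Type u} [Fintype I] {N : ModSite.Mod O}
    (ψ : SheafOfModules.free I ⟶ N)
    (x : (pre (SheafOfModules.free (R := ModSite.ringSh O) I)).obj (op X)) :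
    ψ.val.app (op X) x = ∑ a : I, coord a x • freeHomEquivTop hX N ψ a := by
  have h := congrArg (fun f => (f ≫ ψ).val.app (op X) x) (sum_proj_ιFree O (I := I))
  simp only [Category.id_comp] at h
  rw [← h, Preadditive.sum_comp, sum_val_app]
  refine Finset.sum_congr rfl (fun a _ => ?_)
  rw [freeHomEquivTop_apply]
  change (SheafOfModules.ιFree a ≫ ψ).val.app (op X) (coord a x) = _
  have h1 : coord a x = coord a x • (1 : O.obj.obj (op X)) := by
    rw [smul_eq_mul, mul_one]
  conv_lhs => rw [h1]
  exact map_smul ((SheafOfModules.ιFree a ≫ ψ).val.app (op X)).hom _ _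

end Groth.Agent.H45.GlobalSec
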