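import Groth.Agent.H45.FinFree.GlobalSecSummand
import Mathlib.RingTheory.Finiteness.Projective

/-!
# Global sections of finite free modules form a finite free module
-/

set_option autoImplicit false
universe u
open CategoryTheory CategoryTheory.Limits Opposite

namespace Groth.Agent.H45.GlobalSec

variable {C : Type u} [SmallCategory C] {J : GrothendieckTopology C} {O : Sheaf J CommRingCat.{u}}
variable {X : C} (hX : IsTerminal X)

variable (O X) in
/-- The ring of global sections, as the ring the modules of sections live over. -/
abbrev Rg : Type u := (ModSite.ringSh O).obj.obj (op X)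

variable (O X) in
/-- A coordinate, as a linear map. -/
noncomputable def coordLin {I : Type u} (a : I) :
    Γ O X (SheafOfModules.free I) →ₗ[Rg O X] Rg O X :=
  ((proj O I a).val.app (op X)).hom

lemma coordLin_apply {I : Type u} (a : I) (x : Γ O X (SheafOfModules.free I)) :
    coordLin O X a x = coord a x := rfl

variable (O X) in
/-- Coordinates, as a linear map. -/
noncomputable def toPi (I : Type u) :
    Γ O X (SheafOfModules.free I) →ₗ[Rg O X] (I → Rg O X) :=
  LinearMap.pi (fun a => coordLin O X a)

lemma toPi_apply {I : Type u} (x : Γ O X (SheafOfModules.free I)) (a : I) :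
    toPi O X I x a = coordLin O X a x := rfl

variable (O X) in
/-- Linear combinations of the basis vectors. -/
noncomputable def ofPi (I : Type u) [Fintype I] :
    (I → Rg O X) →ₗ[Rg O X] Γ O X (SheafOfModules.free I) :=
  Fintype.linearCombination (Rg O X) (e O X (I := I))

lemma ofPi_apply {I : Type u} [Fintype I] (c : I → Rg O X) :
    ofPi O X I c = ∑ a : I, c a • e O X a := rfl

include hX in
lemma ofPi_toPi {I : Type u} [Fintype I] (x : Γ O X (SheafOfModules.free I)) :
    ofPi O X I (toPi O X I x) = x := by
  rw [ofPi_apply]
  exact (expand_self hX x).symm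

open Classical in
lemma coordLin_e {I : Type u} (a b : I) :
    coordLin O X a (e O X b) = if b = a then (1 : Rg O X) else 0 := by
  have h := ιFree_proj O a b
  have h' := congrArg (fun (t : SheafOfModules.unit (ModSite.ringSh O) ⟶
      SheafOfModules.unit (ModSite.ringSh O)) =>
        ((t.val.app (op X)).hom : Rg O X →ₗ[Rg O X] Rg O X) (1 : Rg O X)) h
  change coordLin O X a (e O X b) = _ at h'
  rw [h']
  split_ifs with hba
  · rfl
  · rfl

lemma toPi_ofPi {I : Type u} [Fintype I] (c : I → Rg O X) :
    toPi O X I (ofPi O X I c) = c := by
  classical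
  funext a
  rw [toPi_apply, ofPi_apply, map_sum]
  have h : ∀ b : I, coordLin O X a (c b • e O X b) = if b = a then c b else 0 := by
    intro b
    rw [map_smul, coordLin_e]
    split_ifs with hba
    · rw [smul_eq_mul, mul_one]
    · rw [smul_zero]
  rw [Finset.sum_congr rfl (fun b _ => h b)]
  simp

variable (O X) in
/-- Global sections of a finite free module are a finite free module. -/
noncomputable def gammaFreeEquiv (I : Type u) [Fintype I] :
    Γ O X (SheafOfModules.free I) ≃ₗ[Rg O X] (I → Rg O X) :=
  LinearEquiv.ofLinearMap (toPi O X I) (ofPi O X I)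
    (LinearMap.ext (fun c => toPi_ofPi c))
    (LinearMap.ext (fun x => ofPi_toPi hX x))

end Groth.Agent.H45.GlobalSec
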