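import Groth.Agent.H45.FinFree.GlobalSec

/-!
# Global sections of finite free modules on a ringed site with a terminal object
-/

set_option autoImplicit false
universe u
open CategoryTheory CategoryTheory.Limits Opposite

namespace Groth.Agent.H45.GlobalSec

variable {C : Type u} [SmallCategory C] {J : GrothendieckTopology C} {O : Sheaf J CommRingCat.{u}}
variable {X : C} (hX : IsTerminal X)

variable (O X) in
/-- The ring of global sections. -/
abbrev A : Type u := O.obj.obj (op X)

variable (O X) in
/-- Global sections of a module, as a module over `A`. -/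
abbrev Γ (N : ModSite.Mod O) : ModuleCat.{u} ((ModSite.ringSh O).obj.obj (op X)) :=
  N.val.obj (op X)

variable (O X) in
/-- The basis vectors of the global sections of a free module. -/
noncomputable def e {I : Type u} (i : I) : Γ O X (SheafOfModules.free I) :=
  (SheafOfModules.ιFree (R := ModSite.ringSh O) i).val.app (op X) (1 : O.obj.obj (op X))

lemma freeHomEquivTop_eq (N : ModSite.Mod O) {I : Type u}
    (f : SheafOfModules.free I ⟶ N) (i : I) :
    freeHomEquivTop hX N f i = f.val.app (op X) (e O X i) := rfl

lemma freeHomEquivTop_id {I : Type u} (i : I) :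
    freeHomEquivTop hX (SheafOfModules.free I) (𝟙 _) i = e O X i := by
  rw [freeHomEquivTop_eq]
  rfl

include hX in
lemma expand_self {I : Type u} [Fintype I] (x : Γ O X (SheafOfModules.free I)) :
    x = ∑ a : I, coord a x • e O X a := by
  have h := expand hX (𝟙 (SheafOfModules.free (R := ModSite.ringSh O) I)) x
  simp only [freeHomEquivTop_id] at h
  exact h

include hX in
lemma expand' {I : Type u} [Fintype I] {N : ModSite.Mod O}
    (ψ : SheafOfModules.free I ⟶ N) (x : Γ O X (SheafOfModules.free I)) :
    ψ.val.app (op X) x = ∑ a : I, coord a x • ψ.val.app (op X) (e O X a) :=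
  expand hX ψ x

include hX in
/-- Global sections are fully faithful on morphisms out of a finite free module. -/
theorem bijective_free {I : Type u} [Fintype I] (N : ModSite.Mod O) :
    Function.Bijective (fun φ : SheafOfModules.free (R := ModSite.ringSh O) I ⟶ N =>
      φ.val.app (op X)) := by
  constructor
  · intro f g hfg
    apply (freeHomEquivTop hX N).injective
    funext i
    rw [freeHomEquivTop_eq, freeHomEquivTop_eq]
    exact congrArg (fun (h : Γ O X (SheafOfModules.free I) ⟶ Γ O X N) => h (e O X i)) hfg
  · intro g
    refine ⟨(freeHomEquivTop hX N).symm (fun i => g (e O X i)), ?_⟩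
    have hf : ∀ i, ((freeHomEquivTop hX N).symm (fun i => g (e O X i))).val.app (op X)
        (e O X i) = g (e O X i) := by
      intro i
      rw [← freeHomEquivTop_eq hX, Equiv.apply_symm_apply]
    ext x
    change ((freeHomEquivTop hX N).symm (fun i => g (e O X i))).val.app (op X) x = g x
    rw [expand' hX]
    conv_rhs => rw [expand_self hX x]
    rw [map_sum]
    refine Finset.sum_congr rfl (fun a _ => ?_)
    rw [hf]
    exact (map_smul g.hom _ _).symm

end Groth.Agent.H45.GlobalSec
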