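import Groth.Agent.H45.FinFree.GlobalSecEquiv
import Mathlib.CategoryTheory.Abelian.Basic
import Mathlib.CategoryTheory.Idempotents.Basic

/-!
# Direct summands of finite free modules and finite projective modules of global sections
-/

set_option autoImplicit false
universe u
open CategoryTheory CategoryTheory.Limits Opposite

namespace Groth.Agent.H45.GlobalSec

variable {C : Type u} [SmallCategory C] {J : GrothendieckTopology C} {O : Sheaf J CommRingCat.{u}}
variable {X : C} (hX : IsTerminal X)

include hX in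
/-- Global sections of a direct summand of a finite free module are finite projective. -/
theorem finite_projective_summand (E : ModSite.Mod O)
    (hE : DCoh.IsFinFreeSummandMod (ModSite.ringSh O) E) :
    Module.Finite (Rg O X) (Γ O X E) ∧ Module.Projective (Rg O X) (Γ O X E) := by
  obtain ⟨n, i, p, hip⟩ := hE
  have e1 : i.val.app (op X) ≫ p.val.app (op X) = 𝟙 _ := by
    rw [← val_app_comp, hip, val_app_id]
  let ι : Γ O X E →ₗ[Rg O X] (ULift.{u} (Fin n) → Rg O X) :=
    (toPi O X (ULift.{u} (Fin n))).comp (i.val.app (op X)).hom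
  let π : (ULift.{u} (Fin n) → Rg O X) →ₗ[Rg O X] Γ O X E :=
    (p.val.app (op X)).hom.comp (ofPi O X (ULift.{u} (Fin n)))
  have hπι : π.comp ι = LinearMap.id := by
    apply LinearMap.ext
    intro x
    change (p.val.app (op X)).hom (ofPi O X _ (toPi O X _ ((i.val.app (op X)).hom x))) = x
    rw [ofPi_toPi hX]
    exact congrArg (fun (t : Γ O X E ⟶ Γ O X E) => t.hom x) e1
  have hsurj : Function.Surjective π := fun x => ⟨ι x, congrArg (fun t => t x) hπι⟩
  exact ⟨Module.Finite.of_surjective π hsurj, Module.Projective.of_split ι π hπι⟩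

include hX in
/-- Every finite projective module over the ring of global sections is the module of global
sections of a direct summand of a finite free module. -/
theorem exists_summand (M : ModuleCat.{u} (Rg O X)) [Module.Finite (Rg O X) M]
    [Module.Projective (Rg O X) M] :
    ∃ E : ModSite.Mod O, DCoh.IsFinFreeSummandMod (ModSite.ringSh O) E ∧
      Nonempty (Γ O X E ≅ M) := by
  obtain ⟨n, f, g, -, -, hfg⟩ := Module.Finite.exists_comp_eq_id_of_projective (Rg O X) M
  let I := ULift.{u} (Fin n)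
  let ε : (Fin n → Rg O X) ≃ₗ[Rg O X] (I → Rg O X) :=
    LinearEquiv.funCongrLeft (Rg O X) (Rg O X) Equiv.ulift
  let F : ModuleCat.of (Rg O X) (I → Rg O X) ⟶ M := ModuleCat.ofHom (f.comp ε.symm.toLinearMap)
  let G : M ⟶ ModuleCat.of (Rg O X) (I → Rg O X) := ModuleCat.ofHom (ε.toLinearMap.comp g)
  have hGF : G ≫ F = 𝟙 M := by
    ext x
    change f (ε.symm (ε (g x))) = x
    rw [LinearEquiv.symm_apply_apply]
    exact congrArg (fun t => t x) hfg
  let T : Γ O X (SheafOfModules.free I) ⟶ ModuleCat.of (Rg O X) (I → Rg O X) :=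
    ModuleCat.ofHom (toPi O X I)
  let S : ModuleCat.of (Rg O X) (I → Rg O X) ⟶ Γ O X (SheafOfModules.free I) :=
    ModuleCat.ofHom (ofPi O X I)
  have hTS : T ≫ S = 𝟙 _ :=
    ModuleCat.hom_ext (LinearMap.ext (fun x => ofPi_toPi hX x))
  have hST : S ≫ T = 𝟙 _ :=
    ModuleCat.hom_ext (LinearMap.ext (fun c => toPi_ofPi c))
  obtain ⟨et, het⟩ := (bijective_free hX (I := I)
    (SheafOfModules.free (R := ModSite.ringSh O) I)).2 (T ≫ F ≫ G ≫ S)
  have het' : et.val.app (op X) = T ≫ F ≫ G ≫ S := het
  have hidem : et ≫ et = et := by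
    apply (bijective_free hX (I := I) (SheafOfModules.free (R := ModSite.ringSh O) I)).1
    change (et ≫ et).val.app (op X) = et.val.app (op X)
    rw [val_app_comp, het']
    simp only [Category.assoc]
    rw [← Category.assoc S T, hST, Category.id_comp, ← Category.assoc G F, hGF,
      Category.id_comp]
  obtain ⟨E, iE, pE, h1, h2⟩ := IsIdempotentComplete.idempotents_split _ et hidem
  have h1' : iE.val.app (op X) ≫ pE.val.app (op X) = 𝟙 _ := by
    rw [← val_app_comp, h1, val_app_id]
  have h2' : pE.val.app (op X) ≫ iE.val.app (op X) = T ≫ F ≫ G ≫ S := by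
    rw [← val_app_comp, h2, het']
  refine ⟨E, ⟨n, iE, pE, h1⟩, ⟨⟨iE.val.app (op X) ≫ T ≫ F, G ≫ S ≫ pE.val.app (op X), ?_, ?_⟩⟩⟩
  · calc (iE.val.app (op X) ≫ T ≫ F) ≫ G ≫ S ≫ pE.val.app (op X)
        = iE.val.app (op X) ≫ (T ≫ F ≫ G ≫ S) ≫ pE.val.app (op X) := by
          simp only [Category.assoc]
      _ = (iE.val.app (op X) ≫ pE.val.app (op X)) ≫
            (iE.val.app (op X) ≫ pE.val.app (op X)) := by
          rw [← h2']; simp only [Category.assoc]
      _ = 𝟙 _ := by rw [h1', Category.id_comp]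
  · calc (G ≫ S ≫ pE.val.app (op X)) ≫ iE.val.app (op X) ≫ T ≫ F
        = G ≫ S ≫ (pE.val.app (op X) ≫ iE.val.app (op X)) ≫ T ≫ F := by
          simp only [Category.assoc]
      _ = G ≫ (S ≫ T) ≫ F ≫ G ≫ (S ≫ T) ≫ F := by
          rw [h2']; simp only [Category.assoc]
      _ = (G ≫ F) ≫ (G ≫ F) := by
          rw [hST]; simp only [Category.id_comp, Category.assoc]
      _ = 𝟙 _ := by rw [hGF, Category.id_comp]

end Groth.Agent.H45.GlobalSec
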