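import Groth.Agent.H45.FinFree.GlobalSecFree
import Groth.Prelude.Def_AlgSpPerf
import Mathlib.CategoryTheory.Idempotents.Basic

/-!
# Global sections of direct summands of finite free modules
-/

set_option autoImplicit false
universe u
open CategoryTheory CategoryTheory.Limits Opposite

namespace Groth.Agent.H45.GlobalSec

variable {C : Type u} [SmallCategory C] {J : GrothendieckTopology C} {O : Sheaf J CommRingCat.{u}}
variable {X : C} (hX : IsTerminal X)

lemma val_app_comp {M N P : ModSite.Mod O} (f : M ⟶ N) (g : N ⟶ P) :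
    (f ≫ g).val.app (op X) = f.val.app (op X) ≫ g.val.app (op X) := rfl

lemma val_app_id (M : ModSite.Mod O) :
    (𝟙 M : M ⟶ M).val.app (op X) = 𝟙 _ := rfl

include hX in
/-- Global sections are fully faithful on direct summands of finite free modules. -/
theorem bijective_summand (E E' : ModSite.Mod O)
    (hE : DCoh.IsFinFreeSummandMod (ModSite.ringSh O) E)
    (hE' : DCoh.IsFinFreeSummandMod (ModSite.ringSh O) E') :
    Function.Bijective (fun φ : E ⟶ E' => φ.val.app (op X)) := by
  obtain ⟨n, i, p, hip⟩ := hE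
  obtain ⟨n', i', p', hip'⟩ := hE'
  have hb := bijective_free hX (I := ULift.{u} (Fin n))
    (SheafOfModules.free (R := ModSite.ringSh O) (ULift.{u} (Fin n')))
  constructor
  · intro φ ψ h
    have h1 : (p ≫ φ ≫ i').val.app (op X) = (p ≫ ψ ≫ i').val.app (op X) := by
      rw [val_app_comp, val_app_comp, val_app_comp, val_app_comp]
      exact congrArg (fun t => p.val.app (op X) ≫ t ≫ i'.val.app (op X)) h
    have h2 : p ≫ φ ≫ i' = p ≫ ψ ≫ i' := hb.1 h1
    calc φ = (i ≫ p) ≫ φ ≫ (i' ≫ p') := by rw [hip, hip', Category.id_comp, Category.comp_id]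
      _ = i ≫ (p ≫ φ ≫ i') ≫ p' := by simp only [Category.assoc]
      _ = i ≫ (p ≫ ψ ≫ i') ≫ p' := by rw [h2]
      _ = (i ≫ p) ≫ ψ ≫ (i' ≫ p') := by simp only [Category.assoc]
      _ = ψ := by rw [hip, hip', Category.id_comp, Category.comp_id]
  · intro g
    obtain ⟨Φ, hΦ⟩ := hb.2 (p.val.app (op X) ≫ g ≫ i'.val.app (op X))
    refine ⟨i ≫ Φ ≫ p', ?_⟩
    change (i ≫ Φ ≫ p').val.app (op X) = g
    have hΦ' : Φ.val.app (op X) = p.val.app (op X) ≫ g ≫ i'.val.app (op X) := hΦ
    rw [val_app_comp, val_app_comp, hΦ']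
    have e1 : i.val.app (op X) ≫ p.val.app (op X) = 𝟙 _ := by
      rw [← val_app_comp, hip, val_app_id]
    have e2 : i'.val.app (op X) ≫ p'.val.app (op X) = 𝟙 _ := by
      rw [← val_app_comp, hip', val_app_id]
    simp only [Category.assoc]
    rw [e2, Category.comp_id, ← Category.assoc, e1, Category.id_comp]

end Groth.Agent.H45.GlobalSec
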