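import Groth.Agent.H45.FinFree.OverMap
import Groth.Prelude.Def_AlgSpPerf

/-!
# Local lifting of morphisms from direct summands of finite free modules, relative version
-/

set_option autoImplicit false
universe u
open CategoryTheory CategoryTheory.Limits Opposite

namespace Groth.Agent.H45.FinFree

variable {C : Type u} [SmallCategory C] {J : GrothendieckTopology C} {O : Sheaf J CommRingCat.{u}}

/-- Restriction between slices preserves direct summands of finite free modules. -/
lemma isFinFreeSummandMod_ovm {V X : C} (g : V ⟶ X) {E : ModSite.Mod (O.over X)}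
    (hE : DCoh.IsFinFreeSummandMod (ModSite.ringSh (O.over X)) E) :
    DCoh.IsFinFreeSummandMod (ModSite.ringSh (O.over V)) ((ovm O g).obj E) := by
  obtain ⟨n, i, p, hip⟩ := hE
  refine ⟨n, (ovm O g).map i ≫ (ovmFreeIso O g _).inv, (ovmFreeIso O g _).hom ≫ (ovm O g).map p, ?_⟩
  rw [Category.assoc, Iso.inv_hom_id_assoc, ← Functor.map_comp, hip, CategoryTheory.Functor.map_id]

/-- Restriction to a slice preserves direct summands of finite free modules. -/
lemma isFinFreeSummandMod_restr (W : C) {E : ModSite.Mod O}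
    (hE : DCoh.IsFinFreeSummandMod (ModSite.ringSh O) E) :
    DCoh.IsFinFreeSummandMod (ModSite.ringSh (O.over W)) ((ModSite.restr O W).obj E) := by
  obtain ⟨n, i, p, hip⟩ := hE
  refine ⟨n, (ModSite.restr O W).map i ≫ (restrFreeIso O W n).inv,
    (restrFreeIso O W n).hom ≫ (ModSite.restr O W).map p, ?_⟩
  rw [Category.assoc, Iso.inv_hom_id_assoc, ← Functor.map_comp, hip, CategoryTheory.Functor.map_id]

/-- Relative local lifting: on the slice over `X`, a morphism from a direct summand of a finite free
module lifts through an epimorphism, locally on `X`. -/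
theorem local_lift_rel {X : C} (E F G : ModSite.Mod (O.over X))
    (hE : DCoh.IsFinFreeSummandMod (ModSite.ringSh (O.over X)) E)
    (p : G ⟶ F) [Epi p] (φ : E ⟶ F) :
    ∃ R ∈ J X, ∀ ⦃W : C⦄ (g : W ⟶ X), R g →
      ∃ l : (ovm O g).obj E ⟶ (ovm O g).obj G, l ≫ (ovm O g).map p = (ovm O g).map φ := by
  obtain ⟨n, i, p', hip⟩ := hE
  let ψ : SheafOfModules.free (ULift.{u} (Fin n)) ⟶ F := p' ≫ φ
  let f : ULift.{u} (Fin n) → ((forg (O.over X)).obj F).obj (op (top X)) :=
    fun k => freeHomEquivTop F ψ k
  obtain ⟨S, hS, h⟩ := (locSurj_of_epi p).exists_common f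
  refine ⟨Sieve.overEquiv (top X) S, (GrothendieckTopology.mem_over_iff _ _).1 hS,
    fun W g hg => ?_⟩
  have hg' : S.arrows (toTop (gtop g)) := by
    have h1 : S = (Sieve.overEquiv (top X)).symm (Sieve.overEquiv (top X) S) := by simp
    rw [h1, Sieve.overEquiv_symm_iff]
    have h2 : (toTop (gtop g)).left = g := by simp
    rw [h2]
    exact hg
  obtain ⟨γ, hγ⟩ := h (toTop (gtop g)) hg'
  let lam : SheafOfModules.free (ULift.{u} (Fin n)) ⟶ (ovm O g).obj G :=
    (freeHomEquivTop ((ovm O g).obj G)).symm γ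
  have key : lam ≫ (ovm O g).map p = (ovmFreeIso O g _).hom ≫ (ovm O g).map ψ := by
    apply (freeHomEquivTop _).injective
    funext k
    rw [freeHomEquivTop_comp, freeHomEquivTop_ovm]
    have h1 : freeHomEquivTop ((ovm O g).obj G) lam k = γ k := by
      simp only [lam, Equiv.apply_symm_apply]
    rw [h1]
    exact hγ k
  refine ⟨(ovm O g).map i ≫ (ovmFreeIso O g _).inv ≫ lam, ?_⟩
  rw [Category.assoc, Category.assoc, key, Iso.inv_hom_id_assoc, ← Functor.map_comp]
  congr 1
  rw [← Category.assoc, hip, Category.id_comp]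

end Groth.Agent.H45.FinFree
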