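import Groth.Agent.H45.FinFree.NullHomotopy
import Mathlib.Algebra.Homology.DerivedCategory.HomologySequence
import Mathlib.Algebra.Homology.HomotopyCategory.Pretriangulated

/-!
# Local lifting up to homotopy of morphisms from strictly perfect complexes
-/

set_option autoImplicit false
universe u
open CategoryTheory CategoryTheory.Limits Opposite Pretriangulated

namespace Groth.Agent.H45.FinFree

section Abstract

variable {𝒜 : Type*} [Category 𝒜] [Abelian 𝒜]

attribute [local instance] HasDerivedCategory.standard in
/-- The cone of a morphism inducing an epimorphism in degree `n` and a monomorphism in degree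
`n + 1` has vanishing homology in degree `n`. -/
lemma isZero_homology_mappingCone {G F : CochainComplex 𝒜 ℤ} (f : G ⟶ F) (n : ℤ)
    [Epi (HomologicalComplex.homologyMap f n)] [Mono (HomologicalComplex.homologyMap f (n + 1))] :
    IsZero ((CochainComplex.mappingCone f).homology n) := by
  let T := CochainComplex.mappingCone.triangle f
  have hT : DerivedCategory.Q.mapTriangle.obj T ∈ distTriang _ :=
    DerivedCategory.mappingCone_triangle_distinguished f
  haveI : Epi (HomologicalComplex.homologyMap T.mor₁ n) :=
    inferInstanceAs (Epi (HomologicalComplex.homologyMap f n))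
  haveI : Mono (HomologicalComplex.homologyMap T.mor₁ (n + 1)) :=
    inferInstanceAs (Mono (HomologicalComplex.homologyMap f (n + 1)))
  have h1 : HomologicalComplex.homologyMap T.mor₂ n = 0 := by
    have := CochainComplex.homologyMap_comp_eq_zero_of_distTriang T hT n
    rw [← cancel_epi (HomologicalComplex.homologyMap T.mor₁ n), this, comp_zero]
  have h2 : CochainComplex.homologyδOfTriangle T n (n + 1) rfl = 0 := by
    have := CochainComplex.homologyδOfTriangle_homologyMap T hT n (n + 1) rfl
    rw [← cancel_mono (HomologicalComplex.homologyMap T.mor₁ (n + 1)), this, zero_comp]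
  have h3 := CochainComplex.homologyMap_exact₃_of_distTriang T hT n (n + 1) rfl
  haveI h4 : Mono (CochainComplex.homologyδOfTriangle T n (n + 1) rfl) :=
    (ShortComplex.exact_iff_mono _ h1).1 h3
  exact @IsZero.of_mono_eq_zero _ _ _ _ _ _ h4 h2

/-- Lifting through `f` up to homotopy, given a null-homotopy of the composition to the cone. -/
lemma exists_lift_of_homotopy_inr {E F G : CochainComplex 𝒜 ℤ} (α : E ⟶ F) (f : G ⟶ F)
    (H : Homotopy (α ≫ CochainComplex.mappingCone.inr f) 0) :
    ∃ β : E ⟶ G, Nonempty (Homotopy (β ≫ f) α) := by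
  have hT := HomotopyCategory.mappingCone_triangleh_distinguished f
  have h0 : (HomotopyCategory.quotient 𝒜 (ComplexShape.up ℤ)).map α ≫
      (CochainComplex.mappingCone.triangleh f).mor₂ = 0 := by
    change (HomotopyCategory.quotient 𝒜 (ComplexShape.up ℤ)).map α ≫
      (HomotopyCategory.quotient 𝒜 (ComplexShape.up ℤ)).map (CochainComplex.mappingCone.inr f) = 0
    rw [← Functor.map_comp, HomotopyCategory.eq_of_homotopy _ _ H, Functor.map_zero]
  obtain ⟨β', hβ'⟩ := Triangle.coyoneda_exact₂ _ hT _ h0
  obtain ⟨β, rfl⟩ := (HomotopyCategory.quotient 𝒜 (ComplexShape.up ℤ)).map_surjective β'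
  refine ⟨β, ⟨HomotopyCategory.homotopyOfEq _ _ ?_⟩⟩
  rw [Functor.map_comp]
  exact hβ'.symm

end Abstract

variable {C : Type u} [SmallCategory C] {J : GrothendieckTopology C} {O : Sheaf J CommRingCat.{u}}

theorem locally_lift_upToHomotopy (E F G : CochainComplex (ModSite.Mod O) ℤ) (α : E ⟶ F) (f : G ⟶ F)
    (hE : DCoh.IsStrictlyPerfectMod (ModSite.ringSh O) E) (a : ℤ)
    (hEa : ∀ j : ℤ, j < a → IsZero (E.X j))
    (hiso : ∀ j : ℤ, a < j → IsIso (HomologicalComplex.homologyMap f j))
    (hepi : Epi (HomologicalComplex.homologyMap f a)) (V : C) :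
    ∃ R ∈ J V, ∀ ⦃W : C⦄ (g : W ⟶ V), R g →
      ∃ β : ((ModSite.restr O W).mapHomologicalComplex (ComplexShape.up ℤ)).obj E ⟶
          ((ModSite.restr O W).mapHomologicalComplex (ComplexShape.up ℤ)).obj G,
        Nonempty (Homotopy (β ≫ ((ModSite.restr O W).mapHomologicalComplex (ComplexShape.up ℤ)).map f)
          (((ModSite.restr O W).mapHomologicalComplex (ComplexShape.up ℤ)).map α)) := by
  obtain ⟨⟨a₀, b₀, hab⟩, hfree⟩ := hE
  have hcone : ∀ i, a ≤ i → IsZero ((CochainComplex.mappingCone f).homology i) := by
    intro i hi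
    haveI : Epi (HomologicalComplex.homologyMap f i) := by
      rcases eq_or_lt_of_le hi with rfl | hi'
      · exact hepi
      · haveI := hiso i hi'
        infer_instance
    haveI : Mono (HomologicalComplex.homologyMap f (i + 1)) := by
      haveI := hiso (i + 1) (by omega)
      infer_instance
    exact isZero_homology_mappingCone f i
  obtain ⟨R, hR, hR'⟩ := locally_nullHomotopic (α := α ≫ CochainComplex.mappingCone.inr f) a b₀
    (fun i hi => hab i (Or.inr hi)) hEa hfree hcone V
  refine ⟨R, hR, fun W g hg => ?_⟩
  obtain ⟨H⟩ := hR' g hg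
  let rC := (ModSite.restr O W).mapHomologicalComplex (ComplexShape.up ℤ)
  let e := CochainComplex.mappingCone.mapHomologicalComplexIso f (ModSite.restr O W)
  have H' : Homotopy (rC.map α ≫ CochainComplex.mappingCone.inr (rC.map f)) 0 := by
    have h1 : rC.map α ≫ CochainComplex.mappingCone.inr (rC.map f) =
        rC.map (α ≫ CochainComplex.mappingCone.inr f) ≫ e.hom := by
      rw [Functor.map_comp, Category.assoc, CochainComplex.mappingCone.map_inr]
    rw [h1]
    exact (H.compRight e.hom).trans (Homotopy.ofEq zero_comp)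
  exact exists_lift_of_homotopy_inr (rC.map α) (rC.map f) H'

end Groth.Agent.H45.FinFree
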