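import Groth.Agent.H45.FinFree.RestrExact
import Groth.Agent.H45.FinFree.LiftRel

/-!
# Morphisms from a strictly perfect complex to a complex acyclic in high degrees are locally
null-homotopic
-/

set_option autoImplicit false
universe u
open CategoryTheory CategoryTheory.Limits Opposite

namespace Groth.Agent.H45.FinFree

variable {C : Type u} [SmallCategory C] {J : GrothendieckTopology C} {O : Sheaf J CommRingCat.{u}}

section

variable {E K : CochainComplex (ModSite.Mod O) ℤ} (α : E ⟶ K)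

/-- The homotopy relation in degree `i + 1` for a family of maps `h i : E^{i+1} ⟶ K^i` over the
slice over `W`. -/
def HRel (W : C) (h : ∀ i : ℤ, (ModSite.restr O W).obj (E.X (i + 1)) ⟶ (ModSite.restr O W).obj (K.X i))
    (i : ℤ) : Prop :=
  (ModSite.restr O W).map (α.f (i + 1)) =
    (ModSite.restr O W).map (E.d (i + 1) (i + 1 + 1)) ≫ h (i + 1) +
      h i ≫ (ModSite.restr O W).map (K.d i (i + 1))

variable {α}

lemma HRel.transp {W' W : C} (g : W' ⟶ W)
    {h : ∀ i : ℤ, (ModSite.restr O W).obj (E.X (i + 1)) ⟶ (ModSite.restr O W).obj (K.X i)} {i : ℤ}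
    (hi : HRel α W h i)
    (h' : ∀ i : ℤ, (ModSite.restr O W').obj (E.X (i + 1)) ⟶ (ModSite.restr O W').obj (K.X i))
    (e1 : h' (i + 1) = FinFree.transp g (h (i + 1))) (e2 : h' i = FinFree.transp g (h i)) :
    HRel α W' h' i := by
  have := congrArg (FinFree.transp g) hi
  rw [transp_add, transp_comp, transp_comp, transp_map, transp_map, transp_map] at this
  rw [HRel, e1, e2]
  exact this

lemma HRel.of_isZero {W : C}
    (h : ∀ i : ℤ, (ModSite.restr O W).obj (E.X (i + 1)) ⟶ (ModSite.restr O W).obj (K.X i)) (i : ℤ)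
    (hi : IsZero (E.X (i + 1))) : HRel α W h i :=
  ((ModSite.restr O W).map_isZero hi).eq_of_src _ _

variable (α) in
/-- The statement proved by descending induction: locally there is a family `h` satisfying the
homotopy relation in all degrees `> m`. -/
def QStmt (m : ℤ) : Prop :=
  ∀ V : C, ∃ R ∈ J V, ∀ ⦃W : C⦄ (g : W ⟶ V), R g →
    ∃ h : ∀ i : ℤ, (ModSite.restr O W).obj (E.X (i + 1)) ⟶ (ModSite.restr O W).obj (K.X i),
      ∀ i, m ≤ i → HRel α W h i

lemma qstmt_of_isZero (m : ℤ) (hE : ∀ i, m ≤ i → IsZero (E.X (i + 1))) : QStmt α m := by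
  intro V
  exact ⟨⊤, J.top_mem V, fun W g _ => ⟨fun _ => 0, fun i hi => HRel.of_isZero _ i (hE i hi)⟩⟩

lemma qstmt_step_zero {m : ℤ} (hQ : QStmt α (m + 1)) (hE : IsZero (E.X (m + 1))) :
    QStmt α m := by
  intro V
  obtain ⟨R, hR, hR'⟩ := hQ V
  refine ⟨R, hR, fun W g hg => ?_⟩
  obtain ⟨h, hh⟩ := hR' g hg
  refine ⟨h, fun i hi => ?_⟩
  rcases eq_or_lt_of_le hi with rfl | hi'
  · exact HRel.of_isZero _ _ hE
  · exact hh i (by omega)

/-- The key step: extending the local homotopy by one degree, using local lifting. -/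
lemma exists_lift_step {m : ℤ} {W : C}
    (h : ∀ i : ℤ, (ModSite.restr O W).obj (E.X (i + 1)) ⟶ (ModSite.restr O W).obj (K.X i))
    (hh : HRel α W h (m + 1))
    (hE : DCoh.IsFinFreeSummandMod (ModSite.ringSh O) (E.X (m + 1)))
    (hK : IsZero (K.homology (m + 1))) :
    ∃ T ∈ J W, ∀ ⦃W' : C⦄ (g' : W' ⟶ W), T g' →
      ∃ l : (ModSite.restr O W').obj (E.X (m + 1)) ⟶ (ModSite.restr O W').obj (K.X m),
        l ≫ (ModSite.restr O W').map (K.d m (m + 1)) =
          transp g' ((ModSite.restr O W).map (α.f (m + 1)) -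
            (ModSite.restr O W).map (E.d (m + 1) (m + 1 + 1)) ≫ h (m + 1)) := by
  have hS₀ : (K.sc' m (m + 1) (m + 1 + 1)).Exact := by
    rw [← HomologicalComplex.exactAt_iff' K m (m + 1) (m + 1 + 1) (by simp) (by simp),
      HomologicalComplex.exactAt_iff_isZero_homology]
    exact hK
  let S := (K.sc' m (m + 1) (m + 1 + 1)).map (ModSite.restr O W)
  have hS : S.Exact := hS₀.map (ModSite.restr O W)
  let θ : (ModSite.restr O W).obj (E.X (m + 1)) ⟶ (ModSite.restr O W).obj (K.X (m + 1)) :=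
    (ModSite.restr O W).map (α.f (m + 1)) -
      (ModSite.restr O W).map (E.d (m + 1) (m + 1 + 1)) ≫ h (m + 1)
  have hθ : θ ≫ S.g = 0 := by
    change θ ≫ (ModSite.restr O W).map (K.d (m + 1) (m + 1 + 1)) = 0
    have h1 : (ModSite.restr O W).map (α.f (m + 1)) ≫
        (ModSite.restr O W).map (K.d (m + 1) (m + 1 + 1)) =
        (ModSite.restr O W).map (E.d (m + 1) (m + 1 + 1)) ≫
          (ModSite.restr O W).map (α.f (m + 1 + 1)) := by
      rw [← Functor.map_comp, ← Functor.map_comp, α.comm]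
    have h2 : (ModSite.restr O W).map (E.d (m + 1) (m + 1 + 1)) ≫
        (ModSite.restr O W).map (E.d (m + 1 + 1) (m + 1 + 1 + 1)) = 0 := by
      rw [← Functor.map_comp, E.d_comp_d, Functor.map_zero]
    simp only [θ, Preadditive.sub_comp, Category.assoc]
    rw [h1, hh, Preadditive.comp_add, reassoc_of% h2, zero_comp, zero_add, sub_self]
  haveI : Epi S.toCycles := hS.epi_toCycles
  obtain ⟨T, hT, hT'⟩ := local_lift_rel ((ModSite.restr O W).obj (E.X (m + 1))) S.cycles S.X₁
    (isFinFreeSummandMod_restr W hE) S.toCycles (S.liftCycles θ hθ)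
  refine ⟨T, hT, fun W' g' hg' => ?_⟩
  obtain ⟨l₀, hl₀⟩ := hT' g' hg'
  refine ⟨(restrOvmIso O g').inv.app (E.X (m + 1)) ≫ l₀ ≫ (restrOvmIso O g').hom.app (K.X m), ?_⟩
  have h3 : (ovm O g').map S.f ≫ (restrOvmIso O g').hom.app (K.X (m + 1)) =
      (restrOvmIso O g').hom.app (K.X m) ≫ (ModSite.restr O W').map (K.d m (m + 1)) :=
    (restrOvmIso O g').hom.naturality (K.d m (m + 1))
  have h4 : l₀ ≫ (ovm O g').map S.f = (ovm O g').map θ := by
    rw [← S.toCycles_i, Functor.map_comp, reassoc_of% hl₀, ← Functor.map_comp, S.liftCycles_i]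
    rfl
  calc ((restrOvmIso O g').inv.app (E.X (m + 1)) ≫ l₀ ≫ (restrOvmIso O g').hom.app (K.X m)) ≫
        (ModSite.restr O W').map (K.d m (m + 1))
      = (restrOvmIso O g').inv.app (E.X (m + 1)) ≫ l₀ ≫
          ((restrOvmIso O g').hom.app (K.X m) ≫ (ModSite.restr O W').map (K.d m (m + 1))) := by
        simp only [Category.assoc]
    _ = (restrOvmIso O g').inv.app (E.X (m + 1)) ≫ l₀ ≫
          ((ovm O g').map S.f ≫ (restrOvmIso O g').hom.app (K.X (m + 1))) := by rw [h3]; rfl
    _ = (restrOvmIso O g').inv.app (E.X (m + 1)) ≫ (l₀ ≫ (ovm O g').map S.f) ≫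
          (restrOvmIso O g').hom.app (K.X (m + 1)) := by simp only [Category.assoc]
    _ = _ := by rw [h4]; rfl

lemma qstmt_step {m : ℤ} (hQ : QStmt α (m + 1))
    (hE : DCoh.IsFinFreeSummandMod (ModSite.ringSh O) (E.X (m + 1)))
    (hK : IsZero (K.homology (m + 1))) : QStmt α m := by
  classical
  intro V
  obtain ⟨R, hR, hR'⟩ := hQ V
  choose h hh using hR'
  have key : ∀ ⦃W : C⦄ (g : W ⟶ V) (hg : R g), ∃ T ∈ J W, ∀ ⦃W' : C⦄ (g' : W' ⟶ W), T g' →
      ∃ l : (ModSite.restr O W').obj (E.X (m + 1)) ⟶ (ModSite.restr O W').obj (K.X m),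
        l ≫ (ModSite.restr O W').map (K.d m (m + 1)) =
          transp g' ((ModSite.restr O W).map (α.f (m + 1)) -
            (ModSite.restr O W).map (E.d (m + 1) (m + 1 + 1)) ≫ h g hg (m + 1)) :=
    fun W g hg => exists_lift_step (h g hg) (hh g hg (m + 1) le_rfl) hE hK
  choose T hT hT' using key
  refine ⟨Sieve.bind R (fun W g hg => T g hg), J.bind_covering hR (fun W g hg => hT g hg), ?_⟩
  rintro W'' k ⟨W, g', g, hg, hg', rfl⟩
  obtain ⟨l, hl⟩ := hT' g hg g' hg'
  refine ⟨Function.update (fun i => transp g' (h g hg i)) m l, fun i hi => ?_⟩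
  rcases eq_or_lt_of_le hi with rfl | hi'
  · rw [HRel, Function.update_self, Function.update_of_ne (by omega), hl, transp_sub, transp_comp,
      transp_map, transp_map]
    abel
  · exact (hh g hg i (by omega)).transp g' _
      (by rw [Function.update_of_ne (by omega)]) (by rw [Function.update_of_ne (by omega)])

/-- Descending induction. -/
lemma qstmt_of_bounded (b : ℤ) (hb : ∀ i, b < i → IsZero (E.X i))
    (hE : ∀ i, DCoh.IsFinFreeSummandMod (ModSite.ringSh O) (E.X i) ∨ IsZero (E.X i))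
    (hK : ∀ i, IsZero (E.X i) ∨ IsZero (K.homology i)) (n : ℕ) : QStmt α (b - n) := by
  induction n with
  | zero =>
    exact qstmt_of_isZero _ (fun i hi => hb _ (by simp at hi; omega))
  | succ n ih =>
    have e : b - (n : ℤ) = (b - ((n + 1 : ℕ) : ℤ)) + 1 := by push_cast; ring
    rw [e] at ih
    rcases hK (b - ((n + 1 : ℕ) : ℤ) + 1) with h0 | hK'
    · exact qstmt_step_zero ih h0
    · rcases hE (b - ((n + 1 : ℕ) : ℤ) + 1) with hE' | h0
      · exact qstmt_step ih hE' hK'
      · exact qstmt_step_zero ih h0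

/-- A family satisfying the homotopy relation in all degrees gives a homotopy to zero. -/
noncomputable def homotopyOfHRel {W : C}
    (h : ∀ i : ℤ, (ModSite.restr O W).obj (E.X (i + 1)) ⟶ (ModSite.restr O W).obj (K.X i))
    (hh : ∀ i, HRel α W h i) :
    Homotopy (((ModSite.restr O W).mapHomologicalComplex (ComplexShape.up ℤ)).map α) 0 where
  hom i j := if hij : j + 1 = i then
      eqToHom (by subst hij; rfl) ≫ h j else 0
  zero i j hij := dif_neg hij
  comm i := by
    obtain ⟨j, rfl⟩ : ∃ j, i = j + 1 := ⟨i - 1, by omega⟩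
    rw [dNext_eq _ (show (ComplexShape.up ℤ).Rel (j + 1) (j + 1 + 1) from rfl),
      prevD_eq _ (show (ComplexShape.up ℤ).Rel j (j + 1) from rfl)]
    simp only [dif_pos, eqToHom_refl, Category.id_comp, HomologicalComplex.zero_f, add_zero]
    exact hh j

theorem locally_nullHomotopic (a b : ℤ)
    (hb : ∀ i, b < i → IsZero (E.X i)) (ha : ∀ i, i < a → IsZero (E.X i))
    (hE : ∀ i, DCoh.IsFinFreeSummandMod (ModSite.ringSh O) (E.X i))
    (hK : ∀ i, a ≤ i → IsZero (K.homology i)) (V : C) :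
    ∃ R ∈ J V, ∀ ⦃W : C⦄ (g : W ⟶ V), R g →
      Nonempty (Homotopy (((ModSite.restr O W).mapHomologicalComplex (ComplexShape.up ℤ)).map α) 0) := by
  have hQ := qstmt_of_bounded (α := α) b hb (fun i => Or.inl (hE i))
    (fun i => by
      by_cases hi : a ≤ i
      · exact Or.inr (hK i hi)
      · exact Or.inl (ha i (by omega))) (b - a + 1).toNat
  obtain ⟨R, hR, hR'⟩ := hQ V
  refine ⟨R, hR, fun W g hg => ?_⟩
  obtain ⟨h, hh⟩ := hR' g hg
  refine ⟨homotopyOfHRel h (fun i => ?_)⟩
  by_cases hi : b - ((b - a + 1).toNat : ℤ) ≤ i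
  · exact hh i hi
  · refine HRel.of_isZero _ _ (ha _ ?_)
    have := Int.self_le_toNat (b - a + 1)
    omega

end

end Groth.Agent.H45.FinFree
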