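import Groth.Agent.H45.FinFree.Expand
import Mathlib.CategoryTheory.Abelian.Exact
import Mathlib.Algebra.Homology.ShortComplex.ExactFunctor

/-!
# Restriction between slices: exactness and free modules
-/

set_option autoImplicit false
universe u
open CategoryTheory CategoryTheory.Limits Opposite

namespace Groth.Agent.H45.FinFree

variable {C : Type u} [SmallCategory C] {J : GrothendieckTopology C} {O : Sheaf J CommRingCat.{u}}

/-- A locally surjective morphism of sheaves of modules is an epimorphism. -/
theorem epi_of_locSurj {G F : ModSite.Mod O} (p : G ⟶ F)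
    (h : LocSurj J ((forg O).map p)) : Epi p := by
  rw [← isLocallySurjective_iff_locSurj] at h
  have h2 : Epi ((SheafOfModules.toSheaf.{u} (ModSite.ringSh O)).map p) :=
    (Sheaf.isLocallySurjective_iff_epi' _
      ((SheafOfModules.toSheaf.{u} (ModSite.ringSh O)).map p)).1 h
  exact (SheafOfModules.toSheaf.{u} (ModSite.ringSh O)).epi_of_epi_map h2

variable (O) {V X : C} (g : V ⟶ X)

/-- Restriction along `g : V ⟶ X`, from modules on the slice over `X` to modules on the slice
over `V`. -/
noncomputable abbrev ovm : ModSite.Mod (O.over X) ⥤ ModSite.Mod (O.over V) :=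
  SheafOfModules.overMap.{u} (ModSite.ringSh O) g

set_option backward.isDefEq.respectTransparency.types false in
instance isRightAdjoint_ovm : (ovm O g).IsRightAdjoint :=
  inferInstanceAs (SheafOfModules.pushforward.{u} _).IsRightAdjoint

instance additive_ovm : (ovm O g).Additive where

/-- Restricting to the slice over `X` and then to the slice over `V` is restricting to the
slice over `V`. -/
noncomputable def restrOvmIso : ModSite.restr O X ⋙ ovm O g ≅ ModSite.restr O V :=
  SheafOfModules.overFunctorMap.{u} (ModSite.ringSh O) g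

variable {O}

lemma locSurj_ovm_map {N N' : ModSite.Mod (O.over X)} (p : N ⟶ N')
    (hp : LocSurj (J.over X) ((forg (O.over X)).map p)) :
    LocSurj (J.over V) ((forg (O.over V)).map ((ovm O g).map p)) := by
  intro Y y
  obtain ⟨S, hS, h⟩ := hp ((Over.map g).obj Y) y
  refine ⟨S.functorPullback (Over.map g), (Over.map g).cover_lift (J.over V) (J.over X) hS,
    fun Z f hf => ?_⟩
  obtain ⟨x, hx⟩ := h ((Over.map g).map f) hf
  exact ⟨x, hx⟩

instance preservesEpimorphisms_ovm : (ovm O g).PreservesEpimorphisms where
  preserves p _ := epi_of_locSurj _ (locSurj_ovm_map g p (locSurj_of_epi p))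

instance preservesFiniteColimits_ovm : PreservesFiniteColimits (ovm O g) := by
  haveI : (ovm O g).PreservesHomology :=
    Functor.preservesHomology_of_preservesEpis_and_kernels _
  exact Functor.preservesFiniteColimits_of_preservesHomology _

variable (O)

/-- Restriction between slices preserves the unit module. -/
noncomputable def ovmUnitIso :
    SheafOfModules.unit (ModSite.ringSh (O.over V)) ≅
      (ovm O g).obj (SheafOfModules.unit (ModSite.ringSh (O.over X))) := Iso.refl _

/-- Restriction between slices preserves finite free modules. -/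
noncomputable def ovmFreeIso (I : Type u) [Finite I] :
    SheafOfModules.free (R := ModSite.ringSh (O.over V)) I ≅
      (ovm O g).obj (SheafOfModules.free I) :=
  SheafOfModules.mapFreeIso (ovm O g) _ (ovmUnitIso O g)

variable {O}

/-- The image in the slice over `X` of the terminal object of the slice over `V`. -/
abbrev gtop : Over X := (Over.map g).obj (top V)

lemma freeHomEquivTop_ovm {N : ModSite.Mod (O.over X)} {I : Type u} [Finite I]
    (ψ : SheafOfModules.free I ⟶ N) (i : I) :
    freeHomEquivTop _ ((ovmFreeIso O g I).hom ≫ (ovm O g).map ψ) i =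
      res (pre N) (toTop (gtop g)) (freeHomEquivTop N ψ i) := by
  rw [freeHomEquivTop_apply, ovmFreeIso, SheafOfModules.ιFree_mapFreeIso_hom_assoc,
    freeHomEquivTop_apply]
  have h := res_naturality ((forg (O.over X)).map (SheafOfModules.ιFree i ≫ ψ)) (toTop (gtop g))
    (1 : (O.over X).obj.obj (op (top X)))
  refine Eq.trans ?_ h
  have h1 : res (pre (SheafOfModules.unit (ModSite.ringSh (O.over X)))) (toTop (gtop g))
      (1 : (O.over X).obj.obj (op (top X))) = (1 : (O.over X).obj.obj (op (gtop g))) :=
    map_one ((O.over X).obj.map (toTop (gtop g)).op).hom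
  refine Eq.trans ?_ (congrArg (fun z =>
    ((forg (O.over X)).map (SheafOfModules.ιFree i ≫ ψ)).app (op (gtop g)) z) h1.symm)
  rfl

lemma ovmFreeIso_inv_proj {I : Type u} [Finite I] (a : I) :
    (ovmFreeIso O g I).inv ≫ proj O V I a =
      (ovm O g).map (proj O X I a) ≫ (ovmUnitIso O g).inv := by
  classical
  apply (isColimitOfPreserves (ovm O g) (SheafOfModules.isColimitFreeCofan I)).hom_ext
  rintro ⟨b⟩
  change (ovm O g).map (SheafOfModules.ιFree b) ≫ _ = (ovm O g).map (SheafOfModules.ιFree b) ≫ _
  rw [ovmFreeIso, SheafOfModules.map_ιFree_mapFreeIso_inv_assoc, ιFree_proj,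
    ← Category.assoc, ← Functor.map_comp, ιFree_proj]
  split_ifs with h
  · rw [CategoryTheory.Functor.map_id, Category.id_comp, Category.comp_id]
  · rw [CategoryTheory.Functor.map_zero, zero_comp, comp_zero]

lemma coord_ovmFreeIso_inv {I : Type u} [Finite I] (a : I)
    (z : (pre ((ovm O g).obj (SheafOfModules.free I))).obj (op (top V))) :
    coord a ((ovmFreeIso O g I).inv.val.app (op (top V)) z) =
      (proj O X I a).val.app (op (gtop g)) z := by
  have h := congrArg (fun f => f.val.app (op (top V)) z) (ovmFreeIso_inv_proj g (I := I) a)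
  exact h

lemma coord_ovm {G R : Type u} [Finite G] [Finite R]
    (ρ : SheafOfModules.free (R := ModSite.ringSh (O.over X)) R ⟶ SheafOfModules.free G)
    (a : G) (b : R) :
    coord a (freeHomEquivTop _
        ((ovmFreeIso O g R).hom ≫ (ovm O g).map ρ ≫ (ovmFreeIso O g G).inv) b) =
      ((O.over X).obj.map (toTop (gtop g)).op).hom (coord a (freeHomEquivTop _ ρ b)) := by
  rw [← Category.assoc, freeHomEquivTop_comp, freeHomEquivTop_ovm, coord_ovmFreeIso_inv]
  exact res_naturality ((forg (O.over X)).map (proj O X G a)) (toTop (gtop g))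
    (freeHomEquivTop _ ρ b)

instance preservesHomology_ovm : (ovm O g).PreservesHomology :=
  Functor.preservesHomology_of_preservesEpis_and_kernels _

section Cokernel

variable {G R : Type u} [Finite G] [Finite R] {N : ModSite.Mod (O.over X)}
  (π : SheafOfModules.free G ⟶ N)
  (ρ : SheafOfModules.free (R := ModSite.ringSh (O.over X)) R ⟶ SheafOfModules.free G)

/-- The restricted generators morphism. -/
noncomputable def ovmGen : SheafOfModules.free G ⟶ (ovm O g).obj N :=
  (ovmFreeIso O g G).hom ≫ (ovm O g).map π

/-- The restricted relations morphism. -/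
noncomputable def ovmRel :
    SheafOfModules.free (R := ModSite.ringSh (O.over V)) R ⟶ SheafOfModules.free G :=
  (ovmFreeIso O g R).hom ≫ (ovm O g).map ρ ≫ (ovmFreeIso O g G).inv

variable {π ρ}

lemma ovmRel_ovmGen (w : ρ ≫ π = 0) : ovmRel g ρ ≫ ovmGen g π = 0 := by
  simp only [ovmRel, ovmGen, Category.assoc, Iso.inv_hom_id_assoc]
  rw [← Functor.map_comp, w, Functor.map_zero, comp_zero]

/-- The restricted presentation is a presentation. -/
noncomputable def ovmIsColimit (w : ρ ≫ π = 0) (hc : IsColimit (CokernelCofork.ofπ π w)) :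
    IsColimit (CokernelCofork.ofπ (ovmGen g π) (ovmRel_ovmGen g w)) := by
  let S : ShortComplex (ModSite.Mod (O.over X)) := ShortComplex.mk ρ π w
  have hS : S.Exact := ShortComplex.exact_of_g_is_cokernel S hc
  haveI : Epi S.g := epi_of_isColimit_cofork hc
  let S' : ShortComplex (ModSite.Mod (O.over V)) :=
    ShortComplex.mk (ovmRel g ρ) (ovmGen g π) (ovmRel_ovmGen g w)
  let e : S' ≅ S.map (ovm O g) :=
    ShortComplex.isoMk (ovmFreeIso O g R) (ovmFreeIso O g G) (Iso.refl _)
      (by
        change (ovmFreeIso O g R).hom ≫ (ovm O g).map ρ =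
          ((ovmFreeIso O g R).hom ≫ (ovm O g).map ρ ≫ (ovmFreeIso O g G).inv) ≫
            (ovmFreeIso O g G).hom
        simp only [Category.assoc, Iso.inv_hom_id, Category.comp_id])
      (by
        change (ovmFreeIso O g G).hom ≫ (ovm O g).map π =
          ((ovmFreeIso O g G).hom ≫ (ovm O g).map π) ≫ 𝟙 _
        rw [Category.comp_id])
  have hS' : S'.Exact := ShortComplex.exact_of_iso e.symm (hS.map (ovm O g))
  haveI : Epi S'.g := by
    change Epi (ovmGen g π)
    unfold ovmGen
    haveI : Epi ((ovm O g).map π) := (ovm O g).map_epi S.g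
    infer_instance
  exact hS'.gIsCokernel

end Cokernel

end Groth.Agent.H45.FinFree
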