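import Groth.Agent.H45.SheafTensor.LocalIso
import Mathlib.Algebra.Category.ModuleCat.Sheaf.Free

/-!
# Sections of sheaves of modules on a slice site

For `N` a sheaf of modules on the slice site `C/W`, global sections of `N` are the same as
elements of `N (𝟙 W)`. In particular morphisms `free I ⟶ N` are families of elements of `N (𝟙 W)`.
-/

set_option autoImplicit false
universe u
open CategoryTheory CategoryTheory.Limits Opposite

namespace Groth.Agent.H45.FinFree

variable {C : Type u} [SmallCategory C] {J : GrothendieckTopology C} {O : Sheaf J CommRingCat.{u}}

/-- The terminal object of the slice `C/W`. -/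
abbrev top (W : C) : Over W := Over.mk (𝟙 W)

/-- The unique map to the terminal object of the slice. -/
abbrev toTop {W : C} (Y : Over W) : Y ⟶ top W := Over.homMk Y.hom

lemma toTop_top (W : C) : toTop (top W) = 𝟙 _ := by ext; simp

lemma comp_toTop {W : C} {Y Z : Over W} (f : Y ⟶ Z) : f ≫ toTop Z = toTop Y := by ext; simp

variable {W : C}

/-- The underlying presheaf of modules of a sheaf of modules on the slice site, in the form used
by `Groth.Agent.H45.res`. -/
abbrev pre (N : ModSite.Mod (O.over W)) :
    PresheafOfModules.{u} ((O.over W).obj ⋙ forget₂ CommRingCat RingCat) := N.val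

/-- Sections of a sheaf of modules on a slice site are the elements over the terminal object. -/
noncomputable def secEquiv (N : ModSite.Mod (O.over W)) :
    N.sections ≃ (pre N).obj (op (top W)) where
  toFun s := s.1 (op (top W))
  invFun x := PresheafOfModules.sectionsMk (fun Y => res (pre N) (toTop Y.unop) x) (by
    intro X Y f
    change res (pre N) f.unop (res (pre N) (toTop X.unop) x) = res (pre N) (toTop Y.unop) x
    rw [← res_comp, comp_toTop])
  left_inv s := by
    ext Y
    exact PresheafOfModules.sections_property s (toTop Y.unop).op
  right_inv x := by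
    change res (pre N) (toTop (top W)) x = x
    rw [toTop_top]
    unfold res
    simp

lemma secEquiv_symm_val (N : ModSite.Mod (O.over W)) (x : (pre N).obj (op (top W)))
    (Y : (Over W)ᵒᵖ) : ((secEquiv N).symm x).1 Y = res (pre N) (toTop Y.unop) x := rfl

lemma secEquiv_sectionsMap {N N' : ModSite.Mod (O.over W)} (f : N ⟶ N') (s : N.sections) :
    secEquiv N' (SheafOfModules.sectionsMap f s) = f.val.app (op (top W)) (secEquiv N s) := rfl

end Groth.Agent.H45.FinFree
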